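/-
The computed relations used for the automorphisms of the O'Nan group.
-/
import Cfsg.Agent.Lib.CosetEnum.ONOut.Check

set_option autoImplicit false
set_option maxRecDepth 1000000

namespace CfsgLib.CosetEnum.ONOut

open CfsgLib.CosetEnum CfsgLib.CosetEnum.ON122760

/-- The powers of the element of order 31. -/
def csU : List (List ℕ) := (List.range 31).map (powW wU)

/-- The letters used in the generating words. -/
def lettW : List (List ℕ) := [wU, wU.reverse, wH, wH.reverse, wT]

/-- The image of a word under a substitution of elements. -/
def imgW (w : List ℕ) : List ℕ := (w.map fun x => (phiW.getD x []).reverse).flatten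

/-- A candidate is the identity or changes whether a relation holds. -/
noncomputable def okKill (c : List ℕ) (abm : ℕ × ℕ × ℕ) : Bool :=
  (okLet c && atBase c) ||
    (okLet (powW (wT ++ powW wH abm.2.1 ++ powW wU abm.1) abm.2.2) &&
      okLet (powW (c ++ (wT ++ powW wH abm.2.1 ++ powW wU abm.1)) abm.2.2) &&
      (atBase (powW (wT ++ powW wH abm.2.1 ++ powW wU abm.1) abm.2.2) !=
        atBase (powW (c ++ (wT ++ powW wH abm.2.1 ++ powW wU abm.1)) abm.2.2)))

theorem centU_ok : okCent info wU sigU csU setU 1 kU 6 2 levU.b = true := by decide +kernel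

theorem centH_ok : okCent info wH sigH csH setH 24 kH 1 7 levH.b = true := by decide +kernel

theorem wU_ok : (okEq (powW wU 31) [] && okLet wU && !(atBase wU)) = true := by decide +kernel

theorem wH_ok : (okEq (powW wH 15) [] && okLet wH) = true := by decide +kernel

theorem wT_ok : (okEq (wT ++ wH ++ wT) (powW wH 14) && okEq (wT ++ wT) []) = true := by decide +kernel

theorem conjU_ok : ∀ i < 15, okEq ((powW wH i).reverse ++ wU ++ powW wH i) (powW wU (10 ^ i % 31)) = true := by
  decide +kernel

theorem shift_ok : ∀ i < 31,
    okEq ((powW wU (i * 23 % 31)).reverse ++ wH ++ powW wU (i * 23 % 31)) (powW wU i ++ wH) = true := by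
  decide +kernel

theorem gens_ok : ∀ x < 7,
    ((gensW.getD x []).all (fun a => Nat.blt a 5) &&
      okEq (((gensW.getD x []).map fun a => lettW.getD a []).flatten) [x]) = true := by decide +kernel

theorem phi_ok : (okEq (imgW wU) wU.reverse && okEq (imgW wH) wH) = true := by decide +kernel

theorem kill_ok : ((csH.zip killA).all fun p => okKill p.1 p.2) = true := by decide +kernel

theorem kill_len : csH.length ≤ killA.length := by decide +kernel

end CfsgLib.CosetEnum.ONOut
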