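/-
Data for the automorphisms of the O'Nan group.
-/
import Cfsg.Agent.Lib.CosetEnum.ONOut.Check

set_option autoImplicit false
set_option maxRecDepth 1000000

namespace CfsgLib.CosetEnum.ONOut

open CfsgLib.CosetEnum CfsgLib.CosetEnum.ON122760

theorem scanH0_ok : allFrom 0 1000 (okAt info 10 wH sigH setH) = true := by decide +kernel

theorem scanH1_ok : allFrom 1000 1000 (okAt info 10 wH sigH setH) = true := by decide +kernel

theorem scanH2_ok : allFrom 2000 1000 (okAt info 10 wH sigH setH) = true := by decide +kernel

theorem scanH3_ok : allFrom 3000 1000 (okAt info 10 wH sigH setH) = true := by decide +kernel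

theorem scanH4_ok : allFrom 4000 1000 (okAt info 10 wH sigH setH) = true := by decide +kernel

theorem scanH5_ok : allFrom 5000 1000 (okAt info 10 wH sigH setH) = true := by decide +kernel

theorem scanH6_ok : allFrom 6000 1000 (okAt info 10 wH sigH setH) = true := by decide +kernel

theorem scanH7_ok : allFrom 7000 1000 (okAt info 10 wH sigH setH) = true := by decide +kernel

theorem scanH8_ok : allFrom 8000 1000 (okAt info 10 wH sigH setH) = true := by decide +kernel

theorem scanH9_ok : allFrom 9000 1000 (okAt info 10 wH sigH setH) = true := by decide +kernel

theorem scanH10_ok : allFrom 10000 1000 (okAt info 10 wH sigH setH) = true := by decide +kernel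

theorem scanH11_ok : allFrom 11000 1000 (okAt info 10 wH sigH setH) = true := by decide +kernel

theorem scanH12_ok : allFrom 12000 1000 (okAt info 10 wH sigH setH) = true := by decide +kernel

theorem scanH13_ok : allFrom 13000 1000 (okAt info 10 wH sigH setH) = true := by decide +kernel

theorem scanH14_ok : allFrom 14000 1000 (okAt info 10 wH sigH setH) = true := by decide +kernel

theorem scanH15_ok : allFrom 15000 1000 (okAt info 10 wH sigH setH) = true := by decide +kernel

theorem scanH16_ok : allFrom 16000 1000 (okAt info 10 wH sigH setH) = true := by decide +kernel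

theorem scanH17_ok : allFrom 17000 1000 (okAt info 10 wH sigH setH) = true := by decide +kernel

theorem scanH18_ok : allFrom 18000 1000 (okAt info 10 wH sigH setH) = true := by decide +kernel

theorem scanH19_ok : allFrom 19000 1000 (okAt info 10 wH sigH setH) = true := by decide +kernel

theorem scanH20_ok : allFrom 20000 1000 (okAt info 10 wH sigH setH) = true := by decide +kernel


end CfsgLib.CosetEnum.ONOut
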