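/-
Data for the automorphisms of the O'Nan group.
-/
import Cfsg.Agent.Lib.CosetEnum.ONOut.Check

set_option autoImplicit false
set_option maxRecDepth 1000000

namespace CfsgLib.CosetEnum.ONOut

open CfsgLib.CosetEnum CfsgLib.CosetEnum.ON122760

theorem scanH21_ok : allFrom 21000 1000 (okAt info 10 wH sigH setH) = true := by decide +kernel

theorem scanH22_ok : allFrom 22000 1000 (okAt info 10 wH sigH setH) = true := by decide +kernel

theorem scanH23_ok : allFrom 23000 1000 (okAt info 10 wH sigH setH) = true := by decide +kernel

theorem scanH24_ok : allFrom 24000 1000 (okAt info 10 wH sigH setH) = true := by decide +kernel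

theorem scanH25_ok : allFrom 25000 1000 (okAt info 10 wH sigH setH) = true := by decide +kernel

theorem scanH26_ok : allFrom 26000 1000 (okAt info 10 wH sigH setH) = true := by decide +kernel

theorem scanH27_ok : allFrom 27000 1000 (okAt info 10 wH sigH setH) = true := by decide +kernel

theorem scanH28_ok : allFrom 28000 1000 (okAt info 10 wH sigH setH) = true := by decide +kernel

theorem scanH29_ok : allFrom 29000 1000 (okAt info 10 wH sigH setH) = true := by decide +kernel

theorem scanH30_ok : allFrom 30000 1000 (okAt info 10 wH sigH setH) = true := by decide +kernel

theorem scanH31_ok : allFrom 31000 1000 (okAt info 10 wH sigH setH) = true := by decide +kernel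

theorem scanH32_ok : allFrom 32000 1000 (okAt info 10 wH sigH setH) = true := by decide +kernel

theorem scanH33_ok : allFrom 33000 1000 (okAt info 10 wH sigH setH) = true := by decide +kernel

theorem scanH34_ok : allFrom 34000 1000 (okAt info 10 wH sigH setH) = true := by decide +kernel

theorem scanH35_ok : allFrom 35000 1000 (okAt info 10 wH sigH setH) = true := by decide +kernel

theorem scanH36_ok : allFrom 36000 1000 (okAt info 10 wH sigH setH) = true := by decide +kernel

theorem scanH37_ok : allFrom 37000 1000 (okAt info 10 wH sigH setH) = true := by decide +kernel

theorem scanH38_ok : allFrom 38000 1000 (okAt info 10 wH sigH setH) = true := by decide +kernel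

theorem scanH39_ok : allFrom 39000 1000 (okAt info 10 wH sigH setH) = true := by decide +kernel

theorem scanH40_ok : allFrom 40000 1000 (okAt info 10 wH sigH setH) = true := by decide +kernel

theorem scanH41_ok : allFrom 41000 1000 (okAt info 10 wH sigH setH) = true := by decide +kernel


end CfsgLib.CosetEnum.ONOut
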