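/-
Data for the automorphisms of the O'Nan group.
-/
import Cfsg.Agent.Lib.CosetEnum.ONOut.Check

set_option autoImplicit false
set_option maxRecDepth 1000000

namespace CfsgLib.CosetEnum.ONOut

open CfsgLib.CosetEnum CfsgLib.CosetEnum.ON122760

theorem scanH84_ok : allFrom 84000 1000 (okAt info 10 wH sigH setH) = true := by decide +kernel

theorem scanH85_ok : allFrom 85000 1000 (okAt info 10 wH sigH setH) = true := by decide +kernel

theorem scanH86_ok : allFrom 86000 1000 (okAt info 10 wH sigH setH) = true := by decide +kernel

theorem scanH87_ok : allFrom 87000 1000 (okAt info 10 wH sigH setH) = true := by decide +kernel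

theorem scanH88_ok : allFrom 88000 1000 (okAt info 10 wH sigH setH) = true := by decide +kernel

theorem scanH89_ok : allFrom 89000 1000 (okAt info 10 wH sigH setH) = true := by decide +kernel

theorem scanH90_ok : allFrom 90000 1000 (okAt info 10 wH sigH setH) = true := by decide +kernel

theorem scanH91_ok : allFrom 91000 1000 (okAt info 10 wH sigH setH) = true := by decide +kernel

theorem scanH92_ok : allFrom 92000 1000 (okAt info 10 wH sigH setH) = true := by decide +kernel

theorem scanH93_ok : allFrom 93000 1000 (okAt info 10 wH sigH setH) = true := by decide +kernel

theorem scanH94_ok : allFrom 94000 1000 (okAt info 10 wH sigH setH) = true := by decide +kernel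

theorem scanH95_ok : allFrom 95000 1000 (okAt info 10 wH sigH setH) = true := by decide +kernel

theorem scanH96_ok : allFrom 96000 1000 (okAt info 10 wH sigH setH) = true := by decide +kernel

theorem scanH97_ok : allFrom 97000 1000 (okAt info 10 wH sigH setH) = true := by decide +kernel

theorem scanH98_ok : allFrom 98000 1000 (okAt info 10 wH sigH setH) = true := by decide +kernel

theorem scanH99_ok : allFrom 99000 1000 (okAt info 10 wH sigH setH) = true := by decide +kernel

theorem scanH100_ok : allFrom 100000 1000 (okAt info 10 wH sigH setH) = true := by decide +kernel

theorem scanH101_ok : allFrom 101000 1000 (okAt info 10 wH sigH setH) = true := by decide +kernel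

theorem scanH102_ok : allFrom 102000 1000 (okAt info 10 wH sigH setH) = true := by decide +kernel

theorem scanH103_ok : allFrom 103000 1000 (okAt info 10 wH sigH setH) = true := by decide +kernel

theorem scanH104_ok : allFrom 104000 1000 (okAt info 10 wH sigH setH) = true := by decide +kernel


end CfsgLib.CosetEnum.ONOut
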