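/-
Data for the automorphisms of the O'Nan group.
-/
import Cfsg.Agent.Lib.CosetEnum.ONOut.Check

set_option autoImplicit false
set_option maxRecDepth 1000000

namespace CfsgLib.CosetEnum.ONOut

open CfsgLib.CosetEnum CfsgLib.CosetEnum.ON122760

theorem scanH105_ok : allFrom 105000 1000 (okAt info 10 wH sigH setH) = true := by decide +kernel

theorem scanH106_ok : allFrom 106000 1000 (okAt info 10 wH sigH setH) = true := by decide +kernel

theorem scanH107_ok : allFrom 107000 1000 (okAt info 10 wH sigH setH) = true := by decide +kernel

theorem scanH108_ok : allFrom 108000 1000 (okAt info 10 wH sigH setH) = true := by decide +kernel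

theorem scanH109_ok : allFrom 109000 1000 (okAt info 10 wH sigH setH) = true := by decide +kernel

theorem scanH110_ok : allFrom 110000 1000 (okAt info 10 wH sigH setH) = true := by decide +kernel

theorem scanH111_ok : allFrom 111000 1000 (okAt info 10 wH sigH setH) = true := by decide +kernel

theorem scanH112_ok : allFrom 112000 1000 (okAt info 10 wH sigH setH) = true := by decide +kernel

theorem scanH113_ok : allFrom 113000 1000 (okAt info 10 wH sigH setH) = true := by decide +kernel

theorem scanH114_ok : allFrom 114000 1000 (okAt info 10 wH sigH setH) = true := by decide +kernel

theorem scanH115_ok : allFrom 115000 1000 (okAt info 10 wH sigH setH) = true := by decide +kernel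

theorem scanH116_ok : allFrom 116000 1000 (okAt info 10 wH sigH setH) = true := by decide +kernel

theorem scanH117_ok : allFrom 117000 1000 (okAt info 10 wH sigH setH) = true := by decide +kernel

theorem scanH118_ok : allFrom 118000 1000 (okAt info 10 wH sigH setH) = true := by decide +kernel

theorem scanH119_ok : allFrom 119000 1000 (okAt info 10 wH sigH setH) = true := by decide +kernel

theorem scanH120_ok : allFrom 120000 1000 (okAt info 10 wH sigH setH) = true := by decide +kernel

theorem scanH121_ok : allFrom 121000 1000 (okAt info 10 wH sigH setH) = true := by decide +kernel

theorem scanH122_ok : allFrom 122000 760 (okAt info 10 wH sigH setH) = true := by decide +kernel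


end CfsgLib.CosetEnum.ONOut
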