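/-
Data for the automorphisms of the O'Nan group.
-/
import Cfsg.Agent.Lib.CosetEnum.ONOut.Check

set_option autoImplicit false
set_option maxRecDepth 1000000

namespace CfsgLib.CosetEnum.ONOut

open CfsgLib.CosetEnum CfsgLib.CosetEnum.ON122760

theorem scanU0_ok : allFrom 0 1000 (okAt info 4 wU sigU setU) = true := by decide +kernel

theorem scanU1_ok : allFrom 1000 1000 (okAt info 4 wU sigU setU) = true := by decide +kernel

theorem scanU2_ok : allFrom 2000 1000 (okAt info 4 wU sigU setU) = true := by decide +kernel

theorem scanU3_ok : allFrom 3000 1000 (okAt info 4 wU sigU setU) = true := by decide +kernel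

theorem scanU4_ok : allFrom 4000 1000 (okAt info 4 wU sigU setU) = true := by decide +kernel

theorem scanU5_ok : allFrom 5000 1000 (okAt info 4 wU sigU setU) = true := by decide +kernel

theorem scanU6_ok : allFrom 6000 1000 (okAt info 4 wU sigU setU) = true := by decide +kernel

theorem scanU7_ok : allFrom 7000 1000 (okAt info 4 wU sigU setU) = true := by decide +kernel

theorem scanU8_ok : allFrom 8000 1000 (okAt info 4 wU sigU setU) = true := by decide +kernel

theorem scanU9_ok : allFrom 9000 1000 (okAt info 4 wU sigU setU) = true := by decide +kernel

theorem scanU10_ok : allFrom 10000 1000 (okAt info 4 wU sigU setU) = true := by decide +kernel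

theorem scanU11_ok : allFrom 11000 1000 (okAt info 4 wU sigU setU) = true := by decide +kernel

theorem scanU12_ok : allFrom 12000 1000 (okAt info 4 wU sigU setU) = true := by decide +kernel

theorem scanU13_ok : allFrom 13000 1000 (okAt info 4 wU sigU setU) = true := by decide +kernel

theorem scanU14_ok : allFrom 14000 1000 (okAt info 4 wU sigU setU) = true := by decide +kernel

theorem scanU15_ok : allFrom 15000 1000 (okAt info 4 wU sigU setU) = true := by decide +kernel

theorem scanU16_ok : allFrom 16000 1000 (okAt info 4 wU sigU setU) = true := by decide +kernel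

theorem scanU17_ok : allFrom 17000 1000 (okAt info 4 wU sigU setU) = true := by decide +kernel

theorem scanU18_ok : allFrom 18000 1000 (okAt info 4 wU sigU setU) = true := by decide +kernel

theorem scanU19_ok : allFrom 19000 1000 (okAt info 4 wU sigU setU) = true := by decide +kernel

theorem scanU20_ok : allFrom 20000 1000 (okAt info 4 wU sigU setU) = true := by decide +kernel


end CfsgLib.CosetEnum.ONOut
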