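/-
Data for the automorphisms of the O'Nan group.
-/
import Cfsg.Agent.Lib.CosetEnum.ONOut.Check

set_option autoImplicit false
set_option maxRecDepth 1000000

namespace CfsgLib.CosetEnum.ONOut

open CfsgLib.CosetEnum CfsgLib.CosetEnum.ON122760

theorem scanU21_ok : allFrom 21000 1000 (okAt info 4 wU sigU setU) = true := by decide +kernel

theorem scanU22_ok : allFrom 22000 1000 (okAt info 4 wU sigU setU) = true := by decide +kernel

theorem scanU23_ok : allFrom 23000 1000 (okAt info 4 wU sigU setU) = true := by decide +kernel

theorem scanU24_ok : allFrom 24000 1000 (okAt info 4 wU sigU setU) = true := by decide +kernel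

theorem scanU25_ok : allFrom 25000 1000 (okAt info 4 wU sigU setU) = true := by decide +kernel

theorem scanU26_ok : allFrom 26000 1000 (okAt info 4 wU sigU setU) = true := by decide +kernel

theorem scanU27_ok : allFrom 27000 1000 (okAt info 4 wU sigU setU) = true := by decide +kernel

theorem scanU28_ok : allFrom 28000 1000 (okAt info 4 wU sigU setU) = true := by decide +kernel

theorem scanU29_ok : allFrom 29000 1000 (okAt info 4 wU sigU setU) = true := by decide +kernel

theorem scanU30_ok : allFrom 30000 1000 (okAt info 4 wU sigU setU) = true := by decide +kernel

theorem scanU31_ok : allFrom 31000 1000 (okAt info 4 wU sigU setU) = true := by decide +kernel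

theorem scanU32_ok : allFrom 32000 1000 (okAt info 4 wU sigU setU) = true := by decide +kernel

theorem scanU33_ok : allFrom 33000 1000 (okAt info 4 wU sigU setU) = true := by decide +kernel

theorem scanU34_ok : allFrom 34000 1000 (okAt info 4 wU sigU setU) = true := by decide +kernel

theorem scanU35_ok : allFrom 35000 1000 (okAt info 4 wU sigU setU) = true := by decide +kernel

theorem scanU36_ok : allFrom 36000 1000 (okAt info 4 wU sigU setU) = true := by decide +kernel

theorem scanU37_ok : allFrom 37000 1000 (okAt info 4 wU sigU setU) = true := by decide +kernel

theorem scanU38_ok : allFrom 38000 1000 (okAt info 4 wU sigU setU) = true := by decide +kernel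

theorem scanU39_ok : allFrom 39000 1000 (okAt info 4 wU sigU setU) = true := by decide +kernel

theorem scanU40_ok : allFrom 40000 1000 (okAt info 4 wU sigU setU) = true := by decide +kernel

theorem scanU41_ok : allFrom 41000 1000 (okAt info 4 wU sigU setU) = true := by decide +kernel


end CfsgLib.CosetEnum.ONOut
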