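/-
Data for the automorphisms of the O'Nan group.
-/
import Cfsg.Agent.Lib.CosetEnum.ONOut.Check

set_option autoImplicit false
set_option maxRecDepth 1000000

namespace CfsgLib.CosetEnum.ONOut

open CfsgLib.CosetEnum CfsgLib.CosetEnum.ON122760

theorem scanU42_ok : allFrom 42000 1000 (okAt info 4 wU sigU setU) = true := by decide +kernel

theorem scanU43_ok : allFrom 43000 1000 (okAt info 4 wU sigU setU) = true := by decide +kernel

theorem scanU44_ok : allFrom 44000 1000 (okAt info 4 wU sigU setU) = true := by decide +kernel

theorem scanU45_ok : allFrom 45000 1000 (okAt info 4 wU sigU setU) = true := by decide +kernel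

theorem scanU46_ok : allFrom 46000 1000 (okAt info 4 wU sigU setU) = true := by decide +kernel

theorem scanU47_ok : allFrom 47000 1000 (okAt info 4 wU sigU setU) = true := by decide +kernel

theorem scanU48_ok : allFrom 48000 1000 (okAt info 4 wU sigU setU) = true := by decide +kernel

theorem scanU49_ok : allFrom 49000 1000 (okAt info 4 wU sigU setU) = true := by decide +kernel

theorem scanU50_ok : allFrom 50000 1000 (okAt info 4 wU sigU setU) = true := by decide +kernel

theorem scanU51_ok : allFrom 51000 1000 (okAt info 4 wU sigU setU) = true := by decide +kernel

theorem scanU52_ok : allFrom 52000 1000 (okAt info 4 wU sigU setU) = true := by decide +kernel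

theorem scanU53_ok : allFrom 53000 1000 (okAt info 4 wU sigU setU) = true := by decide +kernel

theorem scanU54_ok : allFrom 54000 1000 (okAt info 4 wU sigU setU) = true := by decide +kernel

theorem scanU55_ok : allFrom 55000 1000 (okAt info 4 wU sigU setU) = true := by decide +kernel

theorem scanU56_ok : allFrom 56000 1000 (okAt info 4 wU sigU setU) = true := by decide +kernel

theorem scanU57_ok : allFrom 57000 1000 (okAt info 4 wU sigU setU) = true := by decide +kernel

theorem scanU58_ok : allFrom 58000 1000 (okAt info 4 wU sigU setU) = true := by decide +kernel

theorem scanU59_ok : allFrom 59000 1000 (okAt info 4 wU sigU setU) = true := by decide +kernel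

theorem scanU60_ok : allFrom 60000 1000 (okAt info 4 wU sigU setU) = true := by decide +kernel

theorem scanU61_ok : allFrom 61000 1000 (okAt info 4 wU sigU setU) = true := by decide +kernel

theorem scanU62_ok : allFrom 62000 1000 (okAt info 4 wU sigU setU) = true := by decide +kernel


end CfsgLib.CosetEnum.ONOut
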