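/-
Data for the automorphisms of the O'Nan group.
-/
import Cfsg.Agent.Lib.CosetEnum.ONOut.Check

set_option autoImplicit false
set_option maxRecDepth 1000000

namespace CfsgLib.CosetEnum.ONOut

open CfsgLib.CosetEnum CfsgLib.CosetEnum.ON122760

theorem scanU63_ok : allFrom 63000 1000 (okAt info 4 wU sigU setU) = true := by decide +kernel

theorem scanU64_ok : allFrom 64000 1000 (okAt info 4 wU sigU setU) = true := by decide +kernel

theorem scanU65_ok : allFrom 65000 1000 (okAt info 4 wU sigU setU) = true := by decide +kernel

theorem scanU66_ok : allFrom 66000 1000 (okAt info 4 wU sigU setU) = true := by decide +kernel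

theorem scanU67_ok : allFrom 67000 1000 (okAt info 4 wU sigU setU) = true := by decide +kernel

theorem scanU68_ok : allFrom 68000 1000 (okAt info 4 wU sigU setU) = true := by decide +kernel

theorem scanU69_ok : allFrom 69000 1000 (okAt info 4 wU sigU setU) = true := by decide +kernel

theorem scanU70_ok : allFrom 70000 1000 (okAt info 4 wU sigU setU) = true := by decide +kernel

theorem scanU71_ok : allFrom 71000 1000 (okAt info 4 wU sigU setU) = true := by decide +kernel

theorem scanU72_ok : allFrom 72000 1000 (okAt info 4 wU sigU setU) = true := by decide +kernel

theorem scanU73_ok : allFrom 73000 1000 (okAt info 4 wU sigU setU) = true := by decide +kernel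

theorem scanU74_ok : allFrom 74000 1000 (okAt info 4 wU sigU setU) = true := by decide +kernel

theorem scanU75_ok : allFrom 75000 1000 (okAt info 4 wU sigU setU) = true := by decide +kernel

theorem scanU76_ok : allFrom 76000 1000 (okAt info 4 wU sigU setU) = true := by decide +kernel

theorem scanU77_ok : allFrom 77000 1000 (okAt info 4 wU sigU setU) = true := by decide +kernel

theorem scanU78_ok : allFrom 78000 1000 (okAt info 4 wU sigU setU) = true := by decide +kernel

theorem scanU79_ok : allFrom 79000 1000 (okAt info 4 wU sigU setU) = true := by decide +kernel

theorem scanU80_ok : allFrom 80000 1000 (okAt info 4 wU sigU setU) = true := by decide +kernel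

theorem scanU81_ok : allFrom 81000 1000 (okAt info 4 wU sigU setU) = true := by decide +kernel

theorem scanU82_ok : allFrom 82000 1000 (okAt info 4 wU sigU setU) = true := by decide +kernel

theorem scanU83_ok : allFrom 83000 1000 (okAt info 4 wU sigU setU) = true := by decide +kernel


end CfsgLib.CosetEnum.ONOut
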