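/-
Data for the automorphisms of the O'Nan group.
-/
import Cfsg.Agent.Lib.CosetEnum.ONOut.Check

set_option autoImplicit false
set_option maxRecDepth 1000000

namespace CfsgLib.CosetEnum.ONOut

open CfsgLib.CosetEnum CfsgLib.CosetEnum.ON122760

theorem scanU105_ok : allFrom 105000 1000 (okAt info 4 wU sigU setU) = true := by decide +kernel

theorem scanU106_ok : allFrom 106000 1000 (okAt info 4 wU sigU setU) = true := by decide +kernel

theorem scanU107_ok : allFrom 107000 1000 (okAt info 4 wU sigU setU) = true := by decide +kernel

theorem scanU108_ok : allFrom 108000 1000 (okAt info 4 wU sigU setU) = true := by decide +kernel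

theorem scanU109_ok : allFrom 109000 1000 (okAt info 4 wU sigU setU) = true := by decide +kernel

theorem scanU110_ok : allFrom 110000 1000 (okAt info 4 wU sigU setU) = true := by decide +kernel

theorem scanU111_ok : allFrom 111000 1000 (okAt info 4 wU sigU setU) = true := by decide +kernel

theorem scanU112_ok : allFrom 112000 1000 (okAt info 4 wU sigU setU) = true := by decide +kernel

theorem scanU113_ok : allFrom 113000 1000 (okAt info 4 wU sigU setU) = true := by decide +kernel

theorem scanU114_ok : allFrom 114000 1000 (okAt info 4 wU sigU setU) = true := by decide +kernel

theorem scanU115_ok : allFrom 115000 1000 (okAt info 4 wU sigU setU) = true := by decide +kernel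

theorem scanU116_ok : allFrom 116000 1000 (okAt info 4 wU sigU setU) = true := by decide +kernel

theorem scanU117_ok : allFrom 117000 1000 (okAt info 4 wU sigU setU) = true := by decide +kernel

theorem scanU118_ok : allFrom 118000 1000 (okAt info 4 wU sigU setU) = true := by decide +kernel

theorem scanU119_ok : allFrom 119000 1000 (okAt info 4 wU sigU setU) = true := by decide +kernel

theorem scanU120_ok : allFrom 120000 1000 (okAt info 4 wU sigU setU) = true := by decide +kernel

theorem scanU121_ok : allFrom 121000 1000 (okAt info 4 wU sigU setU) = true := by decide +kernel

theorem scanU122_ok : allFrom 122000 760 (okAt info 4 wU sigU setU) = true := by decide +kernel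


end CfsgLib.CosetEnum.ONOut
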