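/-
Data for the automorphisms of the O'Nan group.
-/
import Cfsg.Agent.Lib.CosetEnum.ONOut.ScanU0
import Cfsg.Agent.Lib.CosetEnum.ONOut.ScanU1
import Cfsg.Agent.Lib.CosetEnum.ONOut.ScanU2
import Cfsg.Agent.Lib.CosetEnum.ONOut.ScanU3
import Cfsg.Agent.Lib.CosetEnum.ONOut.ScanU4
import Cfsg.Agent.Lib.CosetEnum.ONOut.ScanU5

set_option autoImplicit false
set_option maxRecDepth 1000000

namespace CfsgLib.CosetEnum.ONOut

open CfsgLib.CosetEnum CfsgLib.CosetEnum.ON122760

theorem scanU : ∀ d < 122760, okAt info 4 wU sigU setU d = true := by
  have h0 : ∀ d < 0, okAt info 4 wU sigU setU d = true := fun d hd => absurd hd (Nat.not_lt_zero d)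
  have h1 : ∀ d < 1000, okAt info 4 wU sigU setU d = true := allFrom_step scanU0_ok h0
  have h2 : ∀ d < 2000, okAt info 4 wU sigU setU d = true := allFrom_step scanU1_ok h1
  have h3 : ∀ d < 3000, okAt info 4 wU sigU setU d = true := allFrom_step scanU2_ok h2
  have h4 : ∀ d < 4000, okAt info 4 wU sigU setU d = true := allFrom_step scanU3_ok h3
  have h5 : ∀ d < 5000, okAt info 4 wU sigU setU d = true := allFrom_step scanU4_ok h4
  have h6 : ∀ d < 6000, okAt info 4 wU sigU setU d = true := allFrom_step scanU5_ok h5
  have h7 : ∀ d < 7000, okAt info 4 wU sigU setU d = true := allFrom_step scanU6_ok h6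
  have h8 : ∀ d < 8000, okAt info 4 wU sigU setU d = true := allFrom_step scanU7_ok h7
  have h9 : ∀ d < 9000, okAt info 4 wU sigU setU d = true := allFrom_step scanU8_ok h8
  have h10 : ∀ d < 10000, okAt info 4 wU sigU setU d = true := allFrom_step scanU9_ok h9
  have h11 : ∀ d < 11000, okAt info 4 wU sigU setU d = true := allFrom_step scanU10_ok h10
  have h12 : ∀ d < 12000, okAt info 4 wU sigU setU d = true := allFrom_step scanU11_ok h11
  have h13 : ∀ d < 13000, okAt info 4 wU sigU setU d = true := allFrom_step scanU12_ok h12
  have h14 : ∀ d < 14000, okAt info 4 wU sigU setU d = true := allFrom_step scanU13_ok h13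
  have h15 : ∀ d < 15000, okAt info 4 wU sigU setU d = true := allFrom_step scanU14_ok h14
  have h16 : ∀ d < 16000, okAt info 4 wU sigU setU d = true := allFrom_step scanU15_ok h15
  have h17 : ∀ d < 17000, okAt info 4 wU sigU setU d = true := allFrom_step scanU16_ok h16
  have h18 : ∀ d < 18000, okAt info 4 wU sigU setU d = true := allFrom_step scanU17_ok h17
  have h19 : ∀ d < 19000, okAt info 4 wU sigU setU d = true := allFrom_step scanU18_ok h18
  have h20 : ∀ d < 20000, okAt info 4 wU sigU setU d = true := allFrom_step scanU19_ok h19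
  have h21 : ∀ d < 21000, okAt info 4 wU sigU setU d = true := allFrom_step scanU20_ok h20
  have h22 : ∀ d < 22000, okAt info 4 wU sigU setU d = true := allFrom_step scanU21_ok h21
  have h23 : ∀ d < 23000, okAt info 4 wU sigU setU d = true := allFrom_step scanU22_ok h22
  have h24 : ∀ d < 24000, okAt info 4 wU sigU setU d = true := allFrom_step scanU23_ok h23
  have h25 : ∀ d < 25000, okAt info 4 wU sigU setU d = true := allFrom_step scanU24_ok h24
  have h26 : ∀ d < 26000, okAt info 4 wU sigU setU d = true := allFrom_step scanU25_ok h25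
  have h27 : ∀ d < 27000, okAt info 4 wU sigU setU d = true := allFrom_step scanU26_ok h26
  have h28 : ∀ d < 28000, okAt info 4 wU sigU setU d = true := allFrom_step scanU27_ok h27
  have h29 : ∀ d < 29000, okAt info 4 wU sigU setU d = true := allFrom_step scanU28_ok h28
  have h30 : ∀ d < 30000, okAt info 4 wU sigU setU d = true := allFrom_step scanU29_ok h29
  have h31 : ∀ d < 31000, okAt info 4 wU sigU setU d = true := allFrom_step scanU30_ok h30
  have h32 : ∀ d < 32000, okAt info 4 wU sigU setU d = true := allFrom_step scanU31_ok h31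
  have h33 : ∀ d < 33000, okAt info 4 wU sigU setU d = true := allFrom_step scanU32_ok h32
  have h34 : ∀ d < 34000, okAt info 4 wU sigU setU d = true := allFrom_step scanU33_ok h33
  have h35 : ∀ d < 35000, okAt info 4 wU sigU setU d = true := allFrom_step scanU34_ok h34
  have h36 : ∀ d < 36000, okAt info 4 wU sigU setU d = true := allFrom_step scanU35_ok h35
  have h37 : ∀ d < 37000, okAt info 4 wU sigU setU d = true := allFrom_step scanU36_ok h36
  have h38 : ∀ d < 38000, okAt info 4 wU sigU setU d = true := allFrom_step scanU37_ok h37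
  have h39 : ∀ d < 39000, okAt info 4 wU sigU setU d = true := allFrom_step scanU38_ok h38
  have h40 : ∀ d < 40000, okAt info 4 wU sigU setU d = true := allFrom_step scanU39_ok h39
  have h41 : ∀ d < 41000, okAt info 4 wU sigU setU d = true := allFrom_step scanU40_ok h40
  have h42 : ∀ d < 42000, okAt info 4 wU sigU setU d = true := allFrom_step scanU41_ok h41
  have h43 : ∀ d < 43000, okAt info 4 wU sigU setU d = true := allFrom_step scanU42_ok h42
  have h44 : ∀ d < 44000, okAt info 4 wU sigU setU d = true := allFrom_step scanU43_ok h43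
  have h45 : ∀ d < 45000, okAt info 4 wU sigU setU d = true := allFrom_step scanU44_ok h44
  have h46 : ∀ d < 46000, okAt info 4 wU sigU setU d = true := allFrom_step scanU45_ok h45
  have h47 : ∀ d < 47000, okAt info 4 wU sigU setU d = true := allFrom_step scanU46_ok h46
  have h48 : ∀ d < 48000, okAt info 4 wU sigU setU d = true := allFrom_step scanU47_ok h47
  have h49 : ∀ d < 49000, okAt info 4 wU sigU setU d = true := allFrom_step scanU48_ok h48
  have h50 : ∀ d < 50000, okAt info 4 wU sigU setU d = true := allFrom_step scanU49_ok h49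
  have h51 : ∀ d < 51000, okAt info 4 wU sigU setU d = true := allFrom_step scanU50_ok h50
  have h52 : ∀ d < 52000, okAt info 4 wU sigU setU d = true := allFrom_step scanU51_ok h51
  have h53 : ∀ d < 53000, okAt info 4 wU sigU setU d = true := allFrom_step scanU52_ok h52
  have h54 : ∀ d < 54000, okAt info 4 wU sigU setU d = true := allFrom_step scanU53_ok h53
  have h55 : ∀ d < 55000, okAt info 4 wU sigU setU d = true := allFrom_step scanU54_ok h54
  have h56 : ∀ d < 56000, okAt info 4 wU sigU setU d = true := allFrom_step scanU55_ok h55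
  have h57 : ∀ d < 57000, okAt info 4 wU sigU setU d = true := allFrom_step scanU56_ok h56
  have h58 : ∀ d < 58000, okAt info 4 wU sigU setU d = true := allFrom_step scanU57_ok h57
  have h59 : ∀ d < 59000, okAt info 4 wU sigU setU d = true := allFrom_step scanU58_ok h58
  have h60 : ∀ d < 60000, okAt info 4 wU sigU setU d = true := allFrom_step scanU59_ok h59
  have h61 : ∀ d < 61000, okAt info 4 wU sigU setU d = true := allFrom_step scanU60_ok h60
  have h62 : ∀ d < 62000, okAt info 4 wU sigU setU d = true := allFrom_step scanU61_ok h61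
  have h63 : ∀ d < 63000, okAt info 4 wU sigU setU d = true := allFrom_step scanU62_ok h62
  have h64 : ∀ d < 64000, okAt info 4 wU sigU setU d = true := allFrom_step scanU63_ok h63
  have h65 : ∀ d < 65000, okAt info 4 wU sigU setU d = true := allFrom_step scanU64_ok h64
  have h66 : ∀ d < 66000, okAt info 4 wU sigU setU d = true := allFrom_step scanU65_ok h65
  have h67 : ∀ d < 67000, okAt info 4 wU sigU setU d = true := allFrom_step scanU66_ok h66
  have h68 : ∀ d < 68000, okAt info 4 wU sigU setU d = true := allFrom_step scanU67_ok h67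
  have h69 : ∀ d < 69000, okAt info 4 wU sigU setU d = true := allFrom_step scanU68_ok h68
  have h70 : ∀ d < 70000, okAt info 4 wU sigU setU d = true := allFrom_step scanU69_ok h69
  have h71 : ∀ d < 71000, okAt info 4 wU sigU setU d = true := allFrom_step scanU70_ok h70
  have h72 : ∀ d < 72000, okAt info 4 wU sigU setU d = true := allFrom_step scanU71_ok h71
  have h73 : ∀ d < 73000, okAt info 4 wU sigU setU d = true := allFrom_step scanU72_ok h72
  have h74 : ∀ d < 74000, okAt info 4 wU sigU setU d = true := allFrom_step scanU73_ok h73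
  have h75 : ∀ d < 75000, okAt info 4 wU sigU setU d = true := allFrom_step scanU74_ok h74
  have h76 : ∀ d < 76000, okAt info 4 wU sigU setU d = true := allFrom_step scanU75_ok h75
  have h77 : ∀ d < 77000, okAt info 4 wU sigU setU d = true := allFrom_step scanU76_ok h76
  have h78 : ∀ d < 78000, okAt info 4 wU sigU setU d = true := allFrom_step scanU77_ok h77
  have h79 : ∀ d < 79000, okAt info 4 wU sigU setU d = true := allFrom_step scanU78_ok h78
  have h80 : ∀ d < 80000, okAt info 4 wU sigU setU d = true := allFrom_step scanU79_ok h79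
  have h81 : ∀ d < 81000, okAt info 4 wU sigU setU d = true := allFrom_step scanU80_ok h80
  have h82 : ∀ d < 82000, okAt info 4 wU sigU setU d = true := allFrom_step scanU81_ok h81
  have h83 : ∀ d < 83000, okAt info 4 wU sigU setU d = true := allFrom_step scanU82_ok h82
  have h84 : ∀ d < 84000, okAt info 4 wU sigU setU d = true := allFrom_step scanU83_ok h83
  have h85 : ∀ d < 85000, okAt info 4 wU sigU setU d = true := allFrom_step scanU84_ok h84
  have h86 : ∀ d < 86000, okAt info 4 wU sigU setU d = true := allFrom_step scanU85_ok h85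
  have h87 : ∀ d < 87000, okAt info 4 wU sigU setU d = true := allFrom_step scanU86_ok h86
  have h88 : ∀ d < 88000, okAt info 4 wU sigU setU d = true := allFrom_step scanU87_ok h87
  have h89 : ∀ d < 89000, okAt info 4 wU sigU setU d = true := allFrom_step scanU88_ok h88
  have h90 : ∀ d < 90000, okAt info 4 wU sigU setU d = true := allFrom_step scanU89_ok h89
  have h91 : ∀ d < 91000, okAt info 4 wU sigU setU d = true := allFrom_step scanU90_ok h90
  have h92 : ∀ d < 92000, okAt info 4 wU sigU setU d = true := allFrom_step scanU91_ok h91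
  have h93 : ∀ d < 93000, okAt info 4 wU sigU setU d = true := allFrom_step scanU92_ok h92
  have h94 : ∀ d < 94000, okAt info 4 wU sigU setU d = true := allFrom_step scanU93_ok h93
  have h95 : ∀ d < 95000, okAt info 4 wU sigU setU d = true := allFrom_step scanU94_ok h94
  have h96 : ∀ d < 96000, okAt info 4 wU sigU setU d = true := allFrom_step scanU95_ok h95
  have h97 : ∀ d < 97000, okAt info 4 wU sigU setU d = true := allFrom_step scanU96_ok h96
  have h98 : ∀ d < 98000, okAt info 4 wU sigU setU d = true := allFrom_step scanU97_ok h97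
  have h99 : ∀ d < 99000, okAt info 4 wU sigU setU d = true := allFrom_step scanU98_ok h98
  have h100 : ∀ d < 100000, okAt info 4 wU sigU setU d = true := allFrom_step scanU99_ok h99
  have h101 : ∀ d < 101000, okAt info 4 wU sigU setU d = true := allFrom_step scanU100_ok h100
  have h102 : ∀ d < 102000, okAt info 4 wU sigU setU d = true := allFrom_step scanU101_ok h101
  have h103 : ∀ d < 103000, okAt info 4 wU sigU setU d = true := allFrom_step scanU102_ok h102
  have h104 : ∀ d < 104000, okAt info 4 wU sigU setU d = true := allFrom_step scanU103_ok h103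
  have h105 : ∀ d < 105000, okAt info 4 wU sigU setU d = true := allFrom_step scanU104_ok h104
  have h106 : ∀ d < 106000, okAt info 4 wU sigU setU d = true := allFrom_step scanU105_ok h105
  have h107 : ∀ d < 107000, okAt info 4 wU sigU setU d = true := allFrom_step scanU106_ok h106
  have h108 : ∀ d < 108000, okAt info 4 wU sigU setU d = true := allFrom_step scanU107_ok h107
  have h109 : ∀ d < 109000, okAt info 4 wU sigU setU d = true := allFrom_step scanU108_ok h108
  have h110 : ∀ d < 110000, okAt info 4 wU sigU setU d = true := allFrom_step scanU109_ok h109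
  have h111 : ∀ d < 111000, okAt info 4 wU sigU setU d = true := allFrom_step scanU110_ok h110
  have h112 : ∀ d < 112000, okAt info 4 wU sigU setU d = true := allFrom_step scanU111_ok h111
  have h113 : ∀ d < 113000, okAt info 4 wU sigU setU d = true := allFrom_step scanU112_ok h112
  have h114 : ∀ d < 114000, okAt info 4 wU sigU setU d = true := allFrom_step scanU113_ok h113
  have h115 : ∀ d < 115000, okAt info 4 wU sigU setU d = true := allFrom_step scanU114_ok h114
  have h116 : ∀ d < 116000, okAt info 4 wU sigU setU d = true := allFrom_step scanU115_ok h115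
  have h117 : ∀ d < 117000, okAt info 4 wU sigU setU d = true := allFrom_step scanU116_ok h116
  have h118 : ∀ d < 118000, okAt info 4 wU sigU setU d = true := allFrom_step scanU117_ok h117
  have h119 : ∀ d < 119000, okAt info 4 wU sigU setU d = true := allFrom_step scanU118_ok h118
  have h120 : ∀ d < 120000, okAt info 4 wU sigU setU d = true := allFrom_step scanU119_ok h119
  have h121 : ∀ d < 121000, okAt info 4 wU sigU setU d = true := allFrom_step scanU120_ok h120
  have h122 : ∀ d < 122000, okAt info 4 wU sigU setU d = true := allFrom_step scanU121_ok h121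
  have h123 : ∀ d < 122760, okAt info 4 wU sigU setU d = true := allFrom_step scanU122_ok h122
  exact h123

end CfsgLib.CosetEnum.ONOut
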