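/-
The automorphisms of the O'Nan group.
-/
import Cfsg.Agent.Lib.CosetEnum.ONOut.Base
import Cfsg.Agent.Lib.CosetEnum.ONOut.Checks
import Cfsg.Agent.Lib.CosetEnum.ONOut.ScanU
import Cfsg.Agent.Lib.CosetEnum.ONOut.ScanH
import Cfsg.Prelude.Def_KGroupFacts

set_option autoImplicit false

namespace CfsgLib.CosetEnum.ONOut

open CfsgLib.CosetEnum CfsgLib.CosetEnum.ON122760

/-- An element of order 31. -/
noncomputable abbrev U : presON.Grp := el wU

/-- An element of order 15 normalising the group of order 31. -/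
noncomputable abbrev H : presON.Grp := el wH

/-- An involution inverting the element of order 15. -/
noncomputable abbrev Tt : presON.Grp := el wT

theorem U_pow : U ^ 31 = 1 := by
  have h := wU_ok
  rw [Bool.and_eq_true, Bool.and_eq_true] at h
  rw [← el_powW, el_eq h.1.1, el_nil]

theorem U_ne : U ≠ 1 := by
  have h := wU_ok
  rw [Bool.and_eq_true, Bool.and_eq_true] at h
  intro e
  have := (el_eq_one h.1.2).mp e
  rw [this] at h
  exact Bool.noConfusion h.2

theorem orderOf_U : orderOf U = 31 := by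
  haveI : Fact (Nat.Prime 31) := ⟨by norm_num⟩
  exact orderOf_eq_prime U_pow U_ne

theorem H_conj {i : ℕ} (hi : i < 15) : H ^ i * U * (H ^ i)⁻¹ = U ^ (10 ^ i % 31) := by
  have h := el_eq (conjU_ok i hi)
  rw [el_append, el_append, el_reverse, el_powW, el_powW] at h
  rw [← h, mul_assoc]

theorem T_sq : Tt * Tt = 1 := by
  have h := wT_ok
  rw [Bool.and_eq_true] at h
  have := el_eq h.2
  rwa [el_append, el_nil] at this

theorem T_conj : Tt * H * Tt⁻¹ = H ^ 14 := by
  have h := wT_ok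
  rw [Bool.and_eq_true] at h
  have e := el_eq h.1
  rw [el_append, el_append, el_powW] at e
  rw [inv_eq_of_mul_eq_one_right T_sq, ← e, mul_assoc]

theorem cent_U {g : presON.Grp} (hg : Commute g U) : ∃ i < 31, g = U ^ i := by
  obtain ⟨c, hc, rfl⟩ := cent_mem info 4 (w := wU) scanU centU_ok levU_ok rfl hg
  obtain ⟨i, hi, rfl⟩ := List.mem_map.mp hc
  exact ⟨i, List.mem_range.mp hi, el_powW wU i⟩

theorem cent_H {g : presON.Grp} (hg : Commute g H) : ∃ c ∈ csH, g = el c :=
  cent_mem info 10 (w := wH) scanH centH_ok levH_ok rfl hg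

theorem closure_UHT {K : Subgroup presON.Grp} (hU : U ∈ K) (hH : H ∈ K) (hT : Tt ∈ K) : K = ⊤ := by
  rw [eq_top_iff, ← presON.gen_closure, Subgroup.closure_le]
  rintro _ ⟨x, hx, rfl⟩
  have hx' : x < 7 := hx
  have h := gens_ok x hx'
  rw [Bool.and_eq_true] at h
  have e := el_eq h.2
  have e' : el [x] = presON.σ x := by simp [el]
  rw [← e', ← e]
  refine el_flatten_mem K _ fun w hw => ?_
  obtain ⟨a, ha, rfl⟩ := List.mem_map.mp hw
  have ha' : a < 5 := blt_iff.mp (List.all_eq_true.mp h.1 a ha)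
  interval_cases a
  · exact hU
  · show el wU.reverse ∈ K
    rw [el_reverse]; exact inv_mem hU
  · exact hH
  · show el wH.reverse ∈ K
    rw [el_reverse]; exact inv_mem hH
  · exact hT

theorem eq_one_of_fix (ψ : MulAut presON.Grp) (hU : ψ U = U) (hH : ψ H = H) (hT : ψ Tt = Tt) : ψ = 1 := by
  have hK := closure_UHT (K := MonoidHom.eqLocus ψ.toMonoidHom (MonoidHom.id _)) hU hH hT
  ext g
  have : g ∈ MonoidHom.eqLocus ψ.toMonoidHom (MonoidHom.id presON.Grp) := hK ▸ Subgroup.mem_top g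
  exact this

theorem fix_UH (ψ : MulAut presON.Grp) (hU : ψ U = U) (hH : ψ H = H) : ψ = 1 := by
  refine eq_one_of_fix ψ hU hH ?_
  have hY : Commute (Tt⁻¹ * ψ Tt) H := by
    have e : ψ Tt * H * (ψ Tt)⁻¹ = H ^ 14 := by
      conv_lhs => rw [← hH, ← map_mul, ← map_inv, ← map_mul, T_conj, map_pow, hH]
    rw [← T_conj] at e
    show Tt⁻¹ * ψ Tt * H = H * (Tt⁻¹ * ψ Tt)
    calc Tt⁻¹ * ψ Tt * H = Tt⁻¹ * (ψ Tt * H * (ψ Tt)⁻¹) * ψ Tt := by group
      _ = H * (Tt⁻¹ * ψ Tt) := by rw [e]; group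
  obtain ⟨c, hc, hcY⟩ := cent_H hY
  have hψ : ψ Tt = Tt * el c := by rw [← hcY, mul_inv_cancel_left]
  obtain ⟨j, hj, rfl⟩ := List.getElem_of_mem hc
  have hj' : j < (csH.zip killA).length := by
    rw [List.length_zip]; exact lt_min hj (hj.trans_le kill_len)
  have hk := List.all_eq_true.mp kill_ok _ (List.getElem_mem hj')
  rw [List.getElem_zip] at hk
  rcases Bool.or_eq_true _ _ ▸ hk with hk | hk
  · rw [Bool.and_eq_true] at hk
    rw [hψ, (el_eq_one hk.1).mpr hk.2, mul_one]
  exfalso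
  simp only [Bool.and_eq_true] at hk
  obtain ⟨⟨h0, h1⟩, hne⟩ := hk
  generalize hab : killA[j]'(hj.trans_le kill_len) = abm at h0 h1 hne
  obtain ⟨a, b, m⟩ := abm
  simp only at h0 h1 hne
  have e1 : ψ (el (powW (wT ++ powW wH b ++ powW wU a) m)) =
      el (powW (csH[j] ++ (wT ++ powW wH b ++ powW wU a)) m) := by
    simp only [el_powW, el_append, map_pow, map_mul]
    rw [show ψ (el wU) = el wU from hU, show ψ (el wH) = el wH from hH, show ψ (el wT) = el wT * el csH[j] from hψ]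
    simp only [mul_assoc]
  have hiff : atBase (powW (wT ++ powW wH b ++ powW wU a) m) = true ↔
      atBase (powW (csH[j] ++ (wT ++ powW wH b ++ powW wU a)) m) = true := by
    refine (el_eq_one h0).symm.trans (Iff.trans ?_ (el_eq_one h1))
    rw [← e1]
    exact (MulEquiv.map_eq_one_iff ψ).symm
  simp only [bne_iff_ne, ne_eq] at hne
  exact hne (Bool.eq_iff_iff.mpr hiff)

theorem fix_U (ψ : MulAut presON.Grp) (hU : ψ U = U) : ∃ g, ψ = MulAut.conj g := by
  have h10 : H * U * H⁻¹ = U ^ 10 := by simpa using H_conj (i := 1) (by norm_num)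
  have hX : Commute (H⁻¹ * ψ H) U := by
    have e : ψ H * U * (ψ H)⁻¹ = U ^ 10 := by
      conv_lhs => rw [← hU, ← map_mul, ← map_inv, ← map_mul, h10, map_pow, hU]
    rw [← h10] at e
    show H⁻¹ * ψ H * U = U * (H⁻¹ * ψ H)
    calc H⁻¹ * ψ H * U = H⁻¹ * (ψ H * U * (ψ H)⁻¹) * ψ H := by group
      _ = U * (H⁻¹ * ψ H) := by rw [e]; group
  obtain ⟨i, hi, hiX⟩ := cent_U hX
  have hψ : ψ H = H * U ^ i := by rw [← hiX, mul_inv_cancel_left]
  have hs := el_eq (shift_ok i hi)
  rw [el_append, el_append, el_append, el_reverse, el_powW, el_powW] at hs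
  set m := i * 23 % 31
  refine ⟨U ^ m, ?_⟩
  have hfix : (MulAut.conj (U ^ m))⁻¹ * ψ = 1 := by
    refine fix_UH _ ?_ ?_
    · rw [MulAut.mul_apply, hU, MulAut.conj_inv_apply]
      rw [mul_assoc, ((Commute.refl U).pow_right m).eq, inv_mul_cancel_left]
    · rw [MulAut.mul_apply, hψ, MulAut.conj_inv_apply, ← hs]
      group
  exact (inv_mul_eq_one.mp hfix).symm

/-- The substitution of the outer automorphism. -/
theorem phi_rels : okSubst presON.rels phiW = true := by decide +kernel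

/-- An outer endomorphism. -/
noncomputable def phiHom : presON.Grp →* presON.Grp := (exists_onSubst presON phiW phi_rels).choose

theorem phiHom_σ {x : ℕ} (hx : x < 7) : phiHom (presON.σ x) = el (phiW.getD x []).reverse := by
  rw [Pres.σ, if_pos (show x < presON.k from hx), phiHom, (exists_onSubst presON phiW phi_rels).choose_spec,
    presON_idx x hx, onSubst, el, List.reverse_reverse]

theorem phiHom_el : ∀ w : List ℕ, okLet w = true → phiHom (el w) = el (imgW w) := by
  intro w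
  induction w with
  | nil => intro _; rw [el_nil, map_one]; exact el_nil.symm
  | cons x w ih =>
    intro h
    have h' := okLet_append.mp (show okLet ([x] ++ w) = true from h)
    have hx : x < 7 := okLet_lt h'.1 x List.mem_cons_self
    have e : el (x :: w) = el w * presON.σ x := by rw [show x :: w = [x] ++ w from rfl, el_append]; simp [el]
    rw [e, map_mul, ih h'.2, phiHom_σ hx, ← el_append]
    rfl

theorem phiHom_U : phiHom U = U⁻¹ := by
  have h := phi_ok
  rw [Bool.and_eq_true] at h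
  have hw := wU_ok
  rw [Bool.and_eq_true, Bool.and_eq_true] at hw
  rw [phiHom_el wU hw.1.2, el_eq h.1, el_reverse]

theorem phiHom_bijective : Function.Bijective phiHom := by
  have := presON_upper.1
  have : IsSimpleGroup presON.Grp := presON_simple
  have hinj : Function.Injective phiHom := by
    rw [← MonoidHom.ker_eq_bot_iff]
    rcases (MonoidHom.normal_ker phiHom).eq_bot_or_eq_top with hk | hk
    · exact hk
    · exfalso
      have h1 : phiHom U = 1 := MonoidHom.mem_ker.mp (hk ▸ Subgroup.mem_top _)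
      rw [phiHom_U, inv_eq_one] at h1
      exact U_ne h1
  exact Finite.injective_iff_bijective.mp hinj

/-- An outer automorphism. -/
noncomputable def phiA : MulAut presON.Grp := MulEquiv.ofBijective phiHom phiHom_bijective

theorem phiA_U : phiA U = U⁻¹ := phiHom_U

theorem exists_conj_sylow {x : presON.Grp} (hx : orderOf x = 31) :
    ∃ g, g⁻¹ * x * g ∈ Subgroup.zpowers U := by
  have := presON_upper.1
  haveI : Fact (Nat.Prime 31) := ⟨by norm_num⟩
  have hxP : IsPGroup 31 (Subgroup.zpowers x) := IsPGroup.of_card (n := 1) (by rw [Nat.card_zpowers, hx, pow_one])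
  have hidx : (Subgroup.zpowers U).index = 14865016320 := by
    have h := (Subgroup.zpowers U).card_mul_index
    rw [Nat.card_zpowers, orderOf_U, presON_card] at h
    omega
  have hnd : ¬ 31 ∣ Nat.card (presON.Grp ⧸ Subgroup.zpowers U) := by
    rw [← Subgroup.index, hidx]
    decide +kernel
  obtain ⟨q, hq⟩ := hxP.nonempty_fixed_point_of_prime_not_dvd_card _ hnd
  induction q using QuotientGroup.induction_on with
  | H g =>
    refine ⟨g, ?_⟩
    have h := hq ⟨x, Subgroup.mem_zpowers x⟩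
    have h' : ((x * g : presON.Grp) : presON.Grp ⧸ Subgroup.zpowers U) = (g : presON.Grp ⧸ Subgroup.zpowers U) := h
    rw [eq_comm, QuotientGroup.eq, ← mul_assoc] at h'
    exact h'

theorem exp_cases : ∀ k < 31, 0 < k → ∃ i < 15, 10 ^ i % 31 = k ∨ 31 - 10 ^ i % 31 = k := by decide +kernel

theorem exp_inj : ∀ (i j : Fin 15) (b c : Fin 2),
    (if (b : ℕ) = 0 then 10 ^ (i : ℕ) % 31 else 31 - 10 ^ (i : ℕ) % 31) =
      (if (c : ℕ) = 0 then 10 ^ (j : ℕ) % 31 else 31 - 10 ^ (j : ℕ) % 31) → i = j ∧ b = c := by decide +kernel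

theorem U_pow_neg {q : ℕ} (hq : q ≤ 31) : (U ^ q)⁻¹ = U ^ (31 - q) :=
  inv_eq_of_mul_eq_one_right (by rw [← pow_add, Nat.add_sub_cancel' hq, U_pow])

theorem inn_or (ψ : MulAut presON.Grp) : ψ ∈ Cfsg.Inn presON.Grp ∨ phiA⁻¹ * ψ ∈ Cfsg.Inn presON.Grp := by
  have := presON_upper.1
  obtain ⟨g, hg⟩ := exists_conj_sylow (x := ψ U) (by rw [← MulEquiv.coe_toMonoidHom, orderOf_injective _ ψ.injective,
    orderOf_U])
  obtain ⟨k, hk⟩ := (mem_powers_iff_mem_zpowers.mpr hg)
  have hk' : U ^ (k % 31) = g⁻¹ * ψ U * g := by rw [← orderOf_U, pow_mod_orderOf]; exact hk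
  have hk0 : 0 < k % 31 := by
    rcases Nat.eq_zero_or_pos (k % 31) with h0 | h0
    · exfalso
      rw [h0, pow_zero, eq_comm] at hk'
      have : ψ U = 1 := by
        calc ψ U = g * (g⁻¹ * ψ U * g) * g⁻¹ := by group
          _ = 1 := by rw [hk']; group
      exact U_ne (MulEquiv.map_eq_one_iff ψ |>.mp this)
    · exact h0
  obtain ⟨i, hi, hcase⟩ := exp_cases (k % 31) (Nat.mod_lt _ (by norm_num)) hk0
  set c : MulAut presON.Grp := MulAut.conj ((g * H ^ i)⁻¹) with hc
  rcases hcase with hcase | hcase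
  · left
    have hfix : (c * ψ) U = U := by
      rw [MulAut.mul_apply, hc, MulAut.conj_apply]
      have e : g⁻¹ * ψ U * g = H ^ i * U * (H ^ i)⁻¹ := by rw [← hk', ← hcase, H_conj hi]
      calc (g * H ^ i)⁻¹ * ψ U * (g * H ^ i)⁻¹⁻¹ = (H ^ i)⁻¹ * (g⁻¹ * ψ U * g) * H ^ i := by group
        _ = U := by rw [e]; group
    obtain ⟨m, hm⟩ := fix_U _ hfix
    exact ⟨g * H ^ i * m, by rw [map_mul, ← hm, hc, ← mul_assoc, ← map_mul, mul_inv_cancel, map_one, one_mul]⟩
  · right
    have hfix : (phiA⁻¹ * (c * ψ)) U = U := by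
      rw [MulAut.mul_apply, MulAut.mul_apply, hc, MulAut.conj_apply]
      have e : g⁻¹ * ψ U * g = (H ^ i * U * (H ^ i)⁻¹)⁻¹ := by
        rw [← hk', ← hcase, H_conj hi, U_pow_neg (Nat.le_of_lt (Nat.mod_lt _ (by norm_num)))]
      have e' : (g * H ^ i)⁻¹ * ψ U * (g * H ^ i)⁻¹⁻¹ = U⁻¹ := by
        calc (g * H ^ i)⁻¹ * ψ U * (g * H ^ i)⁻¹⁻¹ = (H ^ i)⁻¹ * (g⁻¹ * ψ U * g) * H ^ i := by group
          _ = U⁻¹ := by rw [e]; group
      rw [e', ← phiA_U, MulAut.inv_apply_self]
    obtain ⟨m, hm⟩ := fix_U _ hfix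
    have e : phiA⁻¹ * ψ = phiA⁻¹ * c⁻¹ * phiA * MulAut.conj m := by rw [← hm]; group
    rw [e]
    refine mul_mem ?_ ⟨m, rfl⟩
    exact (Subgroup.Normal.conj_mem' inferInstance c⁻¹ (inv_mem (show c ∈ Cfsg.Inn presON.Grp from ⟨_, rfl⟩)) phiA)

theorem no_invert (g : presON.Grp) : g * U * g⁻¹ ≠ U⁻¹ := by
  intro hg
  classical
  have := presON_upper.1
  haveI : Fact (Nat.Prime 31) := ⟨by norm_num⟩
  set P := Subgroup.zpowers U with hP
  let e : Fin 15 × Fin 2 → ℕ := fun p => if (p.2 : ℕ) = 0 then 10 ^ (p.1 : ℕ) % 31 else 31 - 10 ^ (p.1 : ℕ) % 31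
  let A : Fin 15 × Fin 2 → presON.Grp := fun p => H ^ (p.1 : ℕ) * g ^ (p.2 : ℕ)
  have hA : ∀ p, A p * U * (A p)⁻¹ = U ^ e p := by
    rintro ⟨⟨i, hi⟩, ⟨b, hb⟩⟩
    interval_cases b
    · simp only [A, e, pow_zero, mul_one, ↓reduceIte]
      exact H_conj hi
    · simp only [A, e, pow_one, if_neg Nat.one_ne_zero]
      rw [← U_pow_neg (Nat.le_of_lt (Nat.mod_lt _ (by norm_num))), ← H_conj hi]
      calc H ^ i * g * U * (H ^ i * g)⁻¹ = H ^ i * (g * U * g⁻¹) * (H ^ i)⁻¹ := by group
        _ = (H ^ i * U * (H ^ i)⁻¹)⁻¹ := by rw [hg]; group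
  have hAN : ∀ p, A p ∈ Subgroup.normalizer (P : Set presON.Grp) := by
    intro p
    refine Subgroup.mem_normalizer_fintype fun h hh => ?_
    obtain ⟨k, rfl⟩ := Subgroup.mem_zpowers_iff.mp hh
    rw [← conj_zpow, hA]
    exact zpow_mem (pow_mem (Subgroup.mem_zpowers U) _) _
  have hlt' : ∀ p, e p < 32 ∧ 0 < e p := by decide +kernel
  let f : Fin 31 × (Fin 15 × Fin 2) → Subgroup.normalizer (P : Set presON.Grp) := fun q =>
    ⟨A q.2 * U ^ (q.1 : ℕ), mul_mem (hAN q.2) (Subgroup.le_normalizer (pow_mem (Subgroup.mem_zpowers U) _))⟩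
  have hf : Function.Bijective f := by
    refine ⟨?_, ?_⟩
    · rintro ⟨a, p⟩ ⟨b, q⟩ h
      have h' : A p * U ^ (a : ℕ) = A q * U ^ (b : ℕ) := congrArg Subtype.val h
      have hc : ∀ (r : Fin 15 × Fin 2) (n : ℕ), (A r * U ^ n) * U * (A r * U ^ n)⁻¹ = U ^ e r := by
        intro r n
        calc A r * U ^ n * U * (A r * U ^ n)⁻¹ = A r * (U ^ n * U * (U ^ n)⁻¹) * (A r)⁻¹ := by group
          _ = U ^ e r := by
            rw [((Commute.refl U).pow_left n).eq, mul_inv_cancel_right]; exact hA r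
      have he : U ^ e p = U ^ e q := by rw [← hc p a, h', hc q b]
      rw [pow_eq_pow_iff_modEq, orderOf_U] at he
      have hpq : p = q := by
        have hp := hlt' p
        have hq := hlt' q
        have : e p = e q := by
          have h31 : ∀ r, e r ≠ 31 := by decide +kernel
          have := h31 p
          have := h31 q
          unfold Nat.ModEq at he
          omega
        obtain ⟨h1, h2⟩ := exp_inj p.1 q.1 p.2 q.2 this
        exact Prod.ext h1 h2
      subst hpq
      have hab := mul_left_cancel h'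
      rw [pow_eq_pow_iff_modEq, orderOf_U] at hab
      unfold Nat.ModEq at hab
      rw [Nat.mod_eq_of_lt a.2, Nat.mod_eq_of_lt b.2] at hab
      exact Prod.ext (Fin.ext hab) rfl
    · rintro ⟨n, hn⟩
      have hnU : n * U * n⁻¹ ∈ P := (Subgroup.mem_normalizer_iff.mp hn U).mp (Subgroup.mem_zpowers U)
      obtain ⟨k, hk⟩ := mem_powers_iff_mem_zpowers.mpr hnU
      have hk' : U ^ (k % 31) = n * U * n⁻¹ := by rw [← orderOf_U, pow_mod_orderOf]; exact hk
      have hk0 : 0 < k % 31 := by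
        rcases Nat.eq_zero_or_pos (k % 31) with h0 | h0
        · exfalso
          rw [h0, pow_zero, eq_comm, mul_inv_eq_one, mul_eq_left] at hk'
          exact U_ne hk'
        · exact h0
      obtain ⟨i, hi, hcase⟩ := exp_cases (k % 31) (Nat.mod_lt _ (by norm_num)) hk0
      obtain ⟨p, hp⟩ : ∃ p : Fin 15 × Fin 2, e p = k % 31 := by
        rcases hcase with h | h
        · exact ⟨(⟨i, hi⟩, 0), h⟩
        · exact ⟨(⟨i, hi⟩, 1), h⟩
      have hcomm : Commute ((A p)⁻¹ * n) U := by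
        have h1 : A p * U * (A p)⁻¹ = n * U * n⁻¹ := by rw [hA p, hp, hk']
        show (A p)⁻¹ * n * U = U * ((A p)⁻¹ * n)
        calc (A p)⁻¹ * n * U = (A p)⁻¹ * (n * U * n⁻¹) * n := by group
          _ = U * ((A p)⁻¹ * n) := by rw [← h1]; group
      obtain ⟨j, hj, hjn⟩ := cent_U hcomm
      exact ⟨(⟨j, hj⟩, p), Subtype.ext (show A p * U ^ j = n by rw [← hjn, mul_inv_cancel_left])⟩
  have hcard : Nat.card (Subgroup.normalizer (P : Set presON.Grp)) = 930 := by
    rw [← Nat.card_congr (Equiv.ofBijective f hf)]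
    simp
  have hidx : (Subgroup.normalizer (P : Set presON.Grp)).index = 495500544 := by
    have h := (Subgroup.normalizer (P : Set presON.Grp)).card_mul_index
    rw [hcard, presON_card] at h
    omega
  have hPp : IsPGroup 31 P := IsPGroup.of_card (n := 1) (by rw [hP, Nat.card_zpowers, orderOf_U, pow_one])
  have hnd : ¬ 31 ∣ P.index := by
    have h := P.card_mul_index
    rw [hP, Nat.card_zpowers, orderOf_U, presON_card] at h
    rw [hP, show (Subgroup.zpowers U).index = 14865016320 by omega]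
    decide +kernel
  let S : Sylow 31 presON.Grp := hPp.toSylow hnd
  have hS := card_sylow_modEq_one 31 presON.Grp
  rw [S.card_eq_index_normalizer] at hS
  have hSP : (S : Set presON.Grp) = (P : Set presON.Grp) := rfl
  rw [hSP, hidx] at hS
  exact absurd hS (by decide +kernel)

theorem card_out : Nat.card (Cfsg.Out presON.Grp) = 2 := by
  show (Cfsg.Inn presON.Grp).index = 2
  rw [Subgroup.index_eq_two_iff]
  refine ⟨phiA⁻¹, fun b => ?_⟩
  have hnot : phiA ∉ Cfsg.Inn presON.Grp := by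
    rintro ⟨g, hg⟩
    refine no_invert g ?_
    rw [← MulAut.conj_apply, hg, phiA_U]
  have hI : (Cfsg.Inn presON.Grp).Normal := inferInstance
  by_cases hb : b ∈ Cfsg.Inn presON.Grp
  · refine Or.inr ⟨hb, fun h => hnot ?_⟩
    exact (Subgroup.inv_mem_iff _).mp ((Subgroup.mul_mem_cancel_left _ hb).mp h)
  · exact Or.inl ⟨hI.mem_comm ((inn_or b).resolve_left hb), hb⟩

end CfsgLib.CosetEnum.ONOut
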