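/-
The outer automorphism group of the presented O'Nan group.
-/
import Cfsg.Agent.Lib.CosetEnum.ONOut.Main
import Cfsg.Agent.Lib.CosetEnum.ONIso

set_option autoImplicit false

namespace CfsgLib.CosetEnum.ONOut

theorem inn_map {G K : Type} [Group G] [Group K] (e : G ≃* K) :
    (Cfsg.Inn G).map (MulAut.congr e).toMonoidHom = Cfsg.Inn K := by
  ext α
  constructor
  · rintro ⟨_, ⟨g, rfl⟩, rfl⟩
    exact ⟨e g, by ext x; simp [MulAut.congr]⟩
  · rintro ⟨k, rfl⟩
    exact ⟨MulAut.conj (e.symm k), ⟨_, rfl⟩, by ext x; simp [MulAut.congr]⟩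

theorem card_out_spor : Nat.card (Cfsg.Out Cfsg.Spor.ON) = 2 :=
  (Nat.card_congr (QuotientGroup.congr _ _ (MulAut.congr onEquiv) (inn_map onEquiv)).toEquiv).trans card_out

end CfsgLib.CosetEnum.ONOut
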